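import Mathlib
import Groth.Prelude.Def_CAlgX
import Groth.Agent.Lib.Helper7.InjFib.Main

set_option linter.style.haveILetI false
set_option linter.unusedVariables false
set_option linter.unusedSectionVars false
set_option autoImplicit false
set_option backward.isDefEq.respectTransparency.types false
set_option synthInstance.maxHeartbeats 400000
set_option maxHeartbeats 800000

universe u

/-! helper7: flatness of the quotient by a sequence that is regular on the closed fibre -/

open IsLocalRing

namespace Groth.Agent.Helper7.QRNil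

/-- membership of a class in `𝔞 • ⊤` inside a quotient by an ideal -/
theorem mk_mem_smul_top_iff {S : Type u} [CommRing S] (𝔞 K : Ideal S) (y : S) :
    (Submodule.Quotient.mk y : S ⧸ K) ∈ 𝔞 • (⊤ : Submodule S (S ⧸ K)) ↔ y ∈ 𝔞 ⊔ K := by
  have h1 : (𝔞 • (⊤ : Submodule S (S ⧸ K))) = Submodule.map (Submodule.mkQ K) 𝔞 := by
    have : (⊤ : Submodule S (S ⧸ K)) = Submodule.map (Submodule.mkQ K) ⊤ := by
      rw [Submodule.map_top, Submodule.range_mkQ]
    rw [this, ← Submodule.map_smul'']
    congr 1
    show 𝔞 * ⊤ = 𝔞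
    exact Ideal.mul_top 𝔞
  rw [h1]
  have h2 : (Submodule.Quotient.mk y : S ⧸ K) ∈ Submodule.map (Submodule.mkQ K) 𝔞 ↔
      y ∈ Submodule.comap (Submodule.mkQ K) (Submodule.map (Submodule.mkQ K) 𝔞) := Iff.rfl
  rw [h2, Submodule.comap_map_mkQ, sup_comm]

/-- range of the multiplication by `l` on a quotient of the ring -/
theorem range_lsmul_quotient {S : Type u} [CommRing S] (K : Ideal S) (l : S) :
    LinearMap.range (LinearMap.lsmul S (S ⧸ K) l) =
      Submodule.map (Submodule.mkQ K) (K ⊔ Ideal.span {l}) := by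
  ext y
  obtain ⟨y, rfl⟩ := Submodule.Quotient.mk_surjective K y
  constructor
  · rintro ⟨x, hx⟩
    obtain ⟨x, rfl⟩ := Submodule.Quotient.mk_surjective K x
    rw [← hx]
    refine ⟨l * x, ?_, rfl⟩
    exact Submodule.mem_sup_right (Ideal.mul_mem_right _ _ (Ideal.subset_span rfl))
  · rintro ⟨z, hz, hzy⟩
    obtain ⟨k, hk, w, hw, rfl⟩ := Submodule.mem_sup.mp hz
    obtain ⟨a, rfl⟩ := Ideal.mem_span_singleton'.mp hw
    refine ⟨Submodule.Quotient.mk a, ?_⟩
    rw [← hzy]
    show l • (Submodule.Quotient.mk a : S ⧸ K) = Submodule.Quotient.mk (k + a * l)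
    rw [← Submodule.Quotient.mk_smul]
    refine (Submodule.Quotient.eq K).mpr ?_
    have : l • a - (k + a * l) = -k := by rw [smul_eq_mul]; ring
    rw [this]; exact K.neg_mem hk

variable {R S : Type u} [CommRing R] [CommRing S] [IsLocalRing R] [IsLocalRing S] [Algebra R S]
  [IsLocalHom (algebraMap R S)]

/-- If `S` is a flat, essentially finitely presented local `R`-algebra and `g` is a finite sequence
in `S` whose image in the closed fibre is weakly regular, then `S ⧸ (g)` is flat over `R`. -/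
theorem flat_quotient_of_isWeaklyRegular_fibre (hS : CAlgX.IsEssFinitePresentation R S)
    [Module.Flat R S] : ∀ (r : ℕ) (g : Fin r → S),
    RingTheory.Sequence.IsWeaklyRegular (S ⧸ (maximalIdeal R).map (algebraMap R S))
      (List.ofFn fun i => Ideal.Quotient.mk ((maximalIdeal R).map (algebraMap R S)) (g i)) →
    Module.Flat R (S ⧸ Ideal.span (Set.range g)) := by
  intro r
  induction r with
  | zero =>
    intro g _
    have h0 : Ideal.span (Set.range g) = ⊥ := by
      rw [Set.range_eq_empty, Ideal.span_empty]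
    exact Module.Flat.of_linearEquiv
      ((Submodule.quotEquivOfEqBot _ h0).restrictScalars R)
  | succ r ih =>
    intro g hreg
    set 𝔪 := (maximalIdeal R).map (algebraMap R S) with h𝔪
    set g₀ : Fin r → S := fun i => g i.castSucc with hg₀
    set l : S := g (Fin.last r) with hl
    set K : Ideal S := Ideal.span (Set.range g₀) with hK
    rw [List.ofFn_succ', List.concat_eq_append,
      RingTheory.Sequence.isWeaklyRegular_append_iff,
      RingTheory.Sequence.isWeaklyRegular_singleton_iff] at hreg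
    obtain ⟨h₀, hlast⟩ := hreg
    haveI hflatK : Module.Flat R (S ⧸ K) := ih g₀ h₀
    have hKfg : K.FG := Submodule.fg_span (Set.finite_range g₀)
    haveI : Module.FinitePresentation S (S ⧸ K) :=
      Module.finitePresentation_of_surjective (Submodule.mkQ K) (Submodule.mkQ_surjective K)
        (by rw [Submodule.ker_mkQ]; exact hKfg)
    -- the ideal generated by the first `r` classes
    have hofList : (Ideal.ofList (List.ofFn fun i : Fin r =>
        Ideal.Quotient.mk 𝔪 (g i.castSucc))) = K.map (Ideal.Quotient.mk 𝔪) := by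
      rw [hK, Ideal.map_span, ← Set.range_comp]
      unfold Ideal.ofList
      congr 1
      ext x
      simp [List.mem_ofFn, hg₀]
    have hu : ∀ x : S ⧸ K, (LinearMap.lsmul S (S ⧸ K) l) x ∈
        (maximalIdeal R).map (algebraMap R S) • (⊤ : Submodule S (S ⧸ K)) →
        x ∈ (maximalIdeal R).map (algebraMap R S) • (⊤ : Submodule S (S ⧸ K)) := by
      intro x hx
      obtain ⟨s, rfl⟩ := Submodule.Quotient.mk_surjective K x
      have hx' : (Submodule.Quotient.mk (l * s) : S ⧸ K) ∈ 𝔪 • (⊤ : Submodule S (S ⧸ K)) := hx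
      rw [mk_mem_smul_top_iff] at hx' ⊢
      -- pass to the fibre
      have h1 : Ideal.Quotient.mk 𝔪 (l * s) ∈ K.map (Ideal.Quotient.mk 𝔪) := by
        rw [Ideal.mem_quotient_iff_mem_sup, sup_comm]; exact hx'
      have h2 : Ideal.Quotient.mk 𝔪 l •
          (Submodule.Quotient.mk (Ideal.Quotient.mk 𝔪 s) :
            (S ⧸ 𝔪) ⧸ (Ideal.ofList (List.ofFn fun i : Fin r =>
              Ideal.Quotient.mk 𝔪 (g i.castSucc)) • (⊤ : Submodule (S ⧸ 𝔪) (S ⧸ 𝔪)))) = 0 := by
        rw [← Submodule.Quotient.mk_smul, Submodule.Quotient.mk_eq_zero]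
        have hmul : Ideal.Quotient.mk 𝔪 l • Ideal.Quotient.mk 𝔪 s = Ideal.Quotient.mk 𝔪 (l * s) := by
          rw [smul_eq_mul, map_mul]
        rw [hmul, hofList]
        show _ ∈ (K.map (Ideal.Quotient.mk 𝔪)) * ⊤
        rw [Ideal.mul_top]; exact h1
      have h3 := isSMulRegular_iff_right_eq_zero_of_smul.mp hlast _ h2
      rw [Submodule.Quotient.mk_eq_zero, hofList] at h3
      have h4 : Ideal.Quotient.mk 𝔪 s ∈ K.map (Ideal.Quotient.mk 𝔪) := by
        have : Ideal.Quotient.mk 𝔪 s ∈ (K.map (Ideal.Quotient.mk 𝔪)) * ⊤ := h3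
        rwa [Ideal.mul_top] at this
      rw [Ideal.mem_quotient_iff_mem_sup, sup_comm] at h4
      exact h4
    obtain ⟨-, hfl⟩ := Groth.Agent.Helper7.InjFib.S2107_main hS (LinearMap.lsmul S (S ⧸ K) l) hu
    have hK' : Ideal.span (Set.range g) = K ⊔ Ideal.span {l} := by
      rw [hK, ← Ideal.span_union]
      congr 1
      ext x
      simp only [Set.mem_range, Set.union_singleton, Set.mem_insert_iff]
      constructor
      · rintro ⟨i, rfl⟩
        refine Fin.lastCases ?_ (fun j => ?_) i
        · left; rfl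
        · right; exact ⟨j, rfl⟩
      · rintro (rfl | ⟨j, rfl⟩)
        · exact ⟨Fin.last r, rfl⟩
        · exact ⟨j.castSucc, rfl⟩
    have hle : K ≤ K ⊔ Ideal.span {l} := le_sup_left
    rw [hK']
    have e1 : ((S ⧸ K) ⧸ LinearMap.range (LinearMap.lsmul S (S ⧸ K) l)) ≃ₗ[S]
        (S ⧸ K) ⧸ Submodule.map (Submodule.mkQ K) (K ⊔ Ideal.span {l}) :=
      Submodule.quotEquivOfEq _ _ (range_lsmul_quotient K l)
    have e2 : ((S ⧸ K) ⧸ Submodule.map (Submodule.mkQ K) (K ⊔ Ideal.span {l})) ≃ₗ[S]
        S ⧸ (K ⊔ Ideal.span {l}) :=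
      Submodule.quotientQuotientEquivQuotient K (K ⊔ Ideal.span {l}) hle
    exact Module.Flat.of_linearEquiv ((e1.trans e2).symm.restrictScalars R)

end Groth.Agent.Helper7.QRNil
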