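import Mathlib
import Groth.Prelude.Def_CAlgX
import Groth.Agent.Lib.Helper1.FlatQuotQR

set_option linter.style.haveILetI false
set_option linter.unusedVariables false
set_option linter.unusedSectionVars false
set_option autoImplicit false
set_option backward.isDefEq.respectTransparency.types false
set_option synthInstance.maxHeartbeats 400000
set_option maxHeartbeats 800000

universe u

/-! helper7: quasi-regular sequences pass to localizations and through ring isomorphisms -/

open MvPolynomial

namespace Groth.Agent.Helper7.QRNil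

open Groth.Agent.Helper1.FlatQuotQR

/-- a ring homomorphism commutes with the evaluation of coefficient vectors -/
theorem map_ev {R₁ R₂ : Type u} [CommRing R₁] [CommRing R₂] (φ : R₁ →+* R₂) {c : ℕ}
    (f : Fin c → R₁) (n : ℕ) (a : D c n → R₁) :
    φ (ev f n a) = ev (fun i => φ (f i)) n (fun d => φ (a d)) := by
  simp only [ev_apply, mon, map_sum, map_mul, map_prod, map_pow]

/-- quasi-regularity passes to a localization -/
theorem isQuasiRegular_of_isLocalization {R₁ R₂ : Type u} [CommRing R₁] [CommRing R₂]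
    [Algebra R₁ R₂] (M : Submonoid R₁) [IsLocalization M R₂] {c : ℕ} (f : Fin c → R₁)
    (hq : CAlgX.IsQuasiRegular f) :
    CAlgX.IsQuasiRegular (fun i => algebraMap R₁ R₂ (f i)) := by
  intro n P hP hmem d
  have hJ : Ideal.span (Set.range fun i => algebraMap R₁ R₂ (f i)) =
      (Ideal.span (Set.range f)).map (algebraMap R₁ R₂) := by
    rw [Ideal.map_span, ← Set.range_comp]; rfl
  by_cases hd : d ∈ D c n
  · rw [eval_eq_ev _ P hP] at hmem
    obtain ⟨b, hb⟩ := IsLocalization.exist_integer_multiples_of_finite M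
      (fun d' : D c n => P.coeff d'.1)
    choose a ha using hb
    have h1 : algebraMap R₁ R₂ (ev f n a) =
        algebraMap R₁ R₂ b * ev (fun i => algebraMap R₁ R₂ (f i)) n (fun d' => P.coeff d'.1) := by
      rw [map_ev]
      have : (fun d' => algebraMap R₁ R₂ (a d')) =
          (algebraMap R₁ R₂ (b : R₁)) • (fun d' : D c n => P.coeff d'.1) := by
        funext d'
        rw [ha d', Pi.smul_apply, Algebra.smul_def, smul_eq_mul]
      rw [this, map_smul, smul_eq_mul]
    have h2 : algebraMap R₁ R₂ (ev f n a) ∈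
        (Ideal.span (Set.range f) ^ (n + 1)).map (algebraMap R₁ R₂) := by
      rw [Ideal.map_pow, ← hJ, h1]
      exact Ideal.mul_mem_left _ _ hmem
    obtain ⟨m, hm, hm'⟩ :=
      (IsLocalization.algebraMap_mem_map_algebraMap_iff M R₂ _ _).mp h2
    have h3 : ev f n (m • a) ∈ Ideal.span (Set.range f) ^ (n + 1) := by
      rw [map_smul, smul_eq_mul]; exact hm'
    have h4 := (ev_mem_succ_iff f hq n (m • a)).mp h3 ⟨d, hd⟩
    have h5 : algebraMap R₁ R₂ (m * a ⟨d, hd⟩) ∈
        (Ideal.span (Set.range f)).map (algebraMap R₁ R₂) :=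
      Ideal.mem_map_of_mem _ (by simpa using h4)
    rw [map_mul, ha ⟨d, hd⟩, Algebra.smul_def, ← mul_assoc, ← map_mul] at h5
    rw [hJ]
    exact (Ideal.unit_mul_mem_iff_mem _
      (IsLocalization.map_units R₂ (⟨m * b, M.mul_mem hm b.2⟩ : M))).mp h5
  · have : P.coeff d = 0 := by
      by_contra hne
      apply hd
      rw [mem_D, Finsupp.degree_eq_weight_one]
      exact hP hne
    rw [this]; exact Ideal.zero_mem _

/-- quasi-regularity passes through ring isomorphisms -/
theorem isQuasiRegular_ringEquiv {R₁ R₂ : Type u} [CommRing R₁] [CommRing R₂] (e : R₁ ≃+* R₂)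
    {c : ℕ} (f : Fin c → R₁) (hq : CAlgX.IsQuasiRegular f) :
    CAlgX.IsQuasiRegular (fun i => e (f i)) := by
  letI : Algebra R₁ R₂ := (e : R₁ →+* R₂).toAlgebra
  haveI : IsLocalization (⊥ : Submonoid R₁) R₁ :=
    IsLocalization.self (fun x hx => by rw [Submonoid.mem_bot.mp hx]; exact isUnit_one)
  haveI : IsLocalization (⊥ : Submonoid R₁) R₂ := by
    refine IsLocalization.isLocalization_of_algEquiv (⊥ : Submonoid R₁)
      ({ e with commutes' := fun _ => rfl } : R₁ ≃ₐ[R₁] R₂)
  exact isQuasiRegular_of_isLocalization (⊥ : Submonoid R₁) f hq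

end Groth.Agent.Helper7.QRNil
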