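import Mathlib
import Groth.Prelude.Def_CAlgX
import Groth.Agent.Lib.Helper7.InjFib.EssFP
import Groth.Agent.Lib.Helper7.QRNil.Transfer
import Groth.Agent.Lib.Helper7.QRNil.Core
import Groth.Agent.S9272
import Groth.Agent.S5803

set_option linter.style.haveILetI false
set_option linter.unusedVariables false
set_option linter.unusedSectionVars false
set_option autoImplicit false
set_option backward.isDefEq.respectTransparency.types false
set_option synthInstance.maxHeartbeats 400000
set_option maxHeartbeats 800000

universe u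

/-! helper7: flatness of a quotient by a lift of a quasi-regular sequence along a locally nilpotent thickening -/

open IsLocalRing TensorProduct

namespace Groth.Agent.Helper7.QRNil

/-- the closed fibre of an essentially finitely presented local algebra is Noetherian -/
theorem isNoetherianRing_fibre {R S : Type u} [CommRing R] [CommRing S] [IsLocalRing R]
    [Algebra R S] (hS : CAlgX.IsEssFinitePresentation R S) :
    IsNoetherianRing (S ⧸ (maximalIdeal R).map (algebraMap R S)) := by
  obtain ⟨C, _, _, _, _, M, hfp, hloc⟩ := hS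
  haveI := hfp
  haveI := hloc
  haveI : Algebra.FiniteType R (C ⧸ (maximalIdeal R).map (algebraMap R C)) :=
    Algebra.FiniteType.of_surjective (Ideal.Quotient.mkₐ R _) Ideal.Quotient.mk_surjective
  haveI : Algebra.FiniteType (R ⧸ maximalIdeal R) (C ⧸ (maximalIdeal R).map (algebraMap R C)) :=
    Algebra.FiniteType.of_restrictScalars_finiteType R _ _
  haveI : IsNoetherianRing (R ⧸ maximalIdeal R) := by
    letI : Field (R ⧸ maximalIdeal R) := Ideal.Quotient.field _
    infer_instance
  haveI : IsNoetherianRing (C ⧸ (maximalIdeal R).map (algebraMap R C)) :=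
    Algebra.FiniteType.isNoetherianRing (R ⧸ maximalIdeal R) _
  haveI : IsNoetherianRing
      (S ⧸ ((maximalIdeal R).map (algebraMap R C)).map (algebraMap C S)) :=
    IsLocalization.isNoetherianRing
      (Algebra.algebraMapSubmonoid (C ⧸ (maximalIdeal R).map (algebraMap R C)) M) _ inferInstance
  have heq : ((maximalIdeal R).map (algebraMap R C)).map (algebraMap C S) =
      (maximalIdeal R).map (algebraMap R S) := by
    rw [Ideal.map_map, ← IsScalarTower.algebraMap_eq]
  exact isNoetherianRing_of_ringEquiv _ (Ideal.quotEquivOfEq heq)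

/-- quasi-regularity passes from a quotient `B ⧸ 𝔟` (presented as the target of a surjection
with kernel `𝔟`) to the quotient of a localization by the extended ideal -/
theorem isQuasiRegular_quotient_localization {B B₂ Sq : Type u} [CommRing B] [CommRing B₂]
    [CommRing Sq] [Algebra B Sq] (M : Submonoid B) [IsLocalization M Sq] (ψ : B →+* B₂)
    (hψ : Function.Surjective ψ) (𝔟 : Ideal B) (hker : RingHom.ker ψ = 𝔟) {c : ℕ}
    (f : Fin c → B) (hq : CAlgX.IsQuasiRegular (fun i => ψ (f i))) :
    CAlgX.IsQuasiRegular (fun i =>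
      Ideal.Quotient.mk (𝔟.map (algebraMap B Sq)) (algebraMap B Sq (f i))) := by
  let e : B₂ ≃+* B ⧸ 𝔟 :=
    (RingHom.quotientKerEquivOfSurjective hψ).symm.trans (Ideal.quotEquivOfEq hker)
  have he : ∀ b, e (ψ b) = Ideal.Quotient.mk 𝔟 b := fun b => by
    show (Ideal.quotEquivOfEq hker) ((RingHom.quotientKerEquivOfSurjective hψ).symm (ψ b)) = _
    have : (RingHom.quotientKerEquivOfSurjective hψ).symm (ψ b) =
        Ideal.Quotient.mk (RingHom.ker ψ) b :=
      (RingEquiv.symm_apply_eq _).mpr rfl
    rw [this]
    rfl
  have h1 : CAlgX.IsQuasiRegular (fun i => Ideal.Quotient.mk 𝔟 (f i)) := by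
    have h := isQuasiRegular_ringEquiv e _ hq
    have hfun : (fun i => e (ψ (f i))) = fun i => Ideal.Quotient.mk 𝔟 (f i) :=
      funext fun i => he (f i)
    rw [hfun] at h
    exact h
  have h2 := isQuasiRegular_of_isLocalization (R₂ := Sq ⧸ 𝔟.map (algebraMap B Sq))
    (Algebra.algebraMapSubmonoid (B ⧸ 𝔟) M) (fun i => Ideal.Quotient.mk 𝔟 (f i)) h1
  have hfun2 : (fun i => algebraMap (B ⧸ 𝔟) (Sq ⧸ 𝔟.map (algebraMap B Sq))
      (Ideal.Quotient.mk 𝔟 (f i))) =
      fun i => Ideal.Quotient.mk (𝔟.map (algebraMap B Sq)) (algebraMap B Sq (f i)) :=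
    funext fun i => Ideal.quotientMap_mk
  rw [hfun2] at h2
  exact h2

section perPrime

variable (A' B' : Type u) [CommRing A'] [CommRing B'] [Algebra A' B'] (I : Ideal A') (r : ℕ)
  (f' : Fin r → B')

/-- quasi-regularity in the local ring of the fibre -/
theorem isQuasiRegular_fibre_localization
    (hq : CAlgX.IsQuasiRegular
      (fun i => Ideal.Quotient.mk (Ideal.map (algebraMap A' B') I) (f' i)))
    (hflat : Module.Flat (A' ⧸ I) ((B' ⧸ Ideal.map (algebraMap A' B') I) ⧸
        Ideal.span (Set.range
          (fun i => Ideal.Quotient.mk (Ideal.map (algebraMap A' B') I) (f' i)))))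
    (p : Ideal A') (hIp : I ≤ p) (P : Ideal B') [P.IsPrime] :
    CAlgX.IsQuasiRegular (fun i => Ideal.Quotient.mk
      ((p.map (algebraMap A' B')).map (algebraMap B' (Localization.AtPrime P)))
      (algebraMap B' (Localization.AtPrime P) (f' i))) := by
  set IB : Ideal B' := I.map (algebraMap A' B') with hIB
  set pbar : Ideal (A' ⧸ I) := p.map (Ideal.Quotient.mk I) with hpbar
  -- step 1: base change to `(A'/I)/p̄`
  have step1 := Groth.Agent.S9272.result (A' ⧸ I) (B' ⧸ IB) ((A' ⧸ I) ⧸ pbar) r
    (fun i => Ideal.Quotient.mk IB (f' i)) hflat hq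
  -- step 2: identify with the quotient
  have step2 : CAlgX.IsQuasiRegular (fun i =>
      Ideal.Quotient.mk (pbar.map (algebraMap (A' ⧸ I) (B' ⧸ IB)))
        (Ideal.Quotient.mk IB (f' i))) := by
    have h := isQuasiRegular_ringEquiv
      (Algebra.TensorProduct.quotIdealMapEquivQuotTensor (B' ⧸ IB) pbar).symm.toRingEquiv _ step1
    have hfun : (fun i => (Algebra.TensorProduct.quotIdealMapEquivQuotTensor (B' ⧸ IB)
        pbar).symm.toRingEquiv ((1 : (A' ⧸ I) ⧸ pbar) ⊗ₜ[A' ⧸ I] Ideal.Quotient.mk IB (f' i))) =
        (fun i => Ideal.Quotient.mk (pbar.map (algebraMap (A' ⧸ I) (B' ⧸ IB)))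
          (Ideal.Quotient.mk IB (f' i))) := by
      funext i
      exact (AlgEquiv.symm_apply_eq _).mpr
        (Algebra.TensorProduct.quotIdealMapEquivQuotTensor_mk (B' ⧸ IB) pbar _).symm
    rw [hfun] at h
    exact h
  have hIBp : IB ≤ p.map (algebraMap A' B') := Ideal.map_mono hIp
  have hcomp : (Ideal.Quotient.mk IB).comp (algebraMap A' B') =
      (algebraMap (A' ⧸ I) (B' ⧸ IB)).comp (Ideal.Quotient.mk I) :=
    RingHom.ext fun x => rfl
  have hmapeq : (p.map (algebraMap A' B')).map (Ideal.Quotient.mk IB) =
      pbar.map (algebraMap (A' ⧸ I) (B' ⧸ IB)) := by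
    rw [hpbar, Ideal.map_map, Ideal.map_map, hcomp]
  let ψ : B' →+* ((B' ⧸ IB) ⧸ pbar.map (algebraMap (A' ⧸ I) (B' ⧸ IB))) :=
    (Ideal.Quotient.mk _).comp (Ideal.Quotient.mk IB)
  have hψsurj : Function.Surjective ψ :=
    Ideal.Quotient.mk_surjective.comp Ideal.Quotient.mk_surjective
  have hker : RingHom.ker ψ = p.map (algebraMap A' B') := by
    show RingHom.ker ((Ideal.Quotient.mk _).comp (Ideal.Quotient.mk IB)) = _
    rw [← RingHom.comap_ker, Ideal.mk_ker, ← hmapeq,
      Ideal.comap_map_of_surjective _ Ideal.Quotient.mk_surjective, ← RingHom.ker_eq_comap_bot,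
      Ideal.mk_ker]
    exact sup_eq_left.mpr hIBp
  exact isQuasiRegular_quotient_localization P.primeCompl ψ hψsurj _ hker f' step2

variable [Module.Flat A' B'] [Algebra.FinitePresentation A' B']

/-- flatness of the localized quotient at a prime containing the sequence -/
theorem flat_localization_quotient (hI : ∀ x ∈ I, IsNilpotent x)
    (hq : CAlgX.IsQuasiRegular
      (fun i => Ideal.Quotient.mk (Ideal.map (algebraMap A' B') I) (f' i)))
    (hflat : Module.Flat (A' ⧸ I) ((B' ⧸ Ideal.map (algebraMap A' B') I) ⧸
        Ideal.span (Set.range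
          (fun i => Ideal.Quotient.mk (Ideal.map (algebraMap A' B') I) (f' i)))))
    (P : Ideal B') [P.IsPrime] (hJP : Ideal.span (Set.range f') ≤ P) :
    Module.Flat A' (Localization.AtPrime P ⧸
      (Ideal.span (Set.range f')).map (algebraMap B' (Localization.AtPrime P))) := by
  set p : Ideal A' := P.under A' with hp
  haveI : P.LiesOver p := ⟨rfl⟩
  letI alg : Algebra (Localization.AtPrime p) (Localization.AtPrime P) :=
    Localization.AtPrime.algebraOfLiesOver p P
  haveI : IsScalarTower A' (Localization.AtPrime p) (Localization.AtPrime P) := inferInstance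
  haveI : IsLocalHom (algebraMap (Localization.AtPrime p) (Localization.AtPrime P)) :=
    Localization.isLocalHom_localRingHom _ _ _ _
  have hS : CAlgX.IsEssFinitePresentation (Localization.AtPrime p) (Localization.AtPrime P) :=
    Groth.Agent.Helper7.InjFib.essFP_of_localization (R := A') (C := B') p P
  haveI : Module.Flat A' (Localization.AtPrime P) :=
    Module.Flat.trans A' B' (Localization.AtPrime P)
  haveI : Module.Flat (Localization.AtPrime p) (Localization.AtPrime P) :=
    (Module.flat_iff_of_isLocalization (Localization.AtPrime p) p.primeCompl _).mpr inferInstance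
  have hIp : I ≤ p := fun x hx => by
    obtain ⟨n, hn⟩ := hI x hx
    exact Ideal.IsPrime.mem_of_pow_mem inferInstance n (hn ▸ p.zero_mem)
  have h𝔪S : (maximalIdeal (Localization.AtPrime p)).map
      (algebraMap (Localization.AtPrime p) (Localization.AtPrime P)) =
      (p.map (algebraMap A' B')).map (algebraMap B' (Localization.AtPrime P)) := by
    rw [← Localization.AtPrime.map_eq_maximalIdeal, Ideal.map_map, Ideal.map_map,
      ← IsScalarTower.algebraMap_eq, ← IsScalarTower.algebraMap_eq]
  have step3 : CAlgX.IsQuasiRegular (fun i => Ideal.Quotient.mk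
      ((maximalIdeal (Localization.AtPrime p)).map
        (algebraMap (Localization.AtPrime p) (Localization.AtPrime P)))
      (algebraMap B' (Localization.AtPrime P) (f' i))) := by
    rw [h𝔪S]
    exact isQuasiRegular_fibre_localization A' B' I r f' hq hflat p hIp P
  haveI hN := isNoetherianRing_fibre hS
  have hjac : ∀ i, Ideal.Quotient.mk ((maximalIdeal (Localization.AtPrime p)).map
        (algebraMap (Localization.AtPrime p) (Localization.AtPrime P)))
      (algebraMap B' (Localization.AtPrime P) (f' i)) ∈ Ring.jacobson _ := by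
    intro i
    rw [← Ideal.jacobson_bot, Ideal.mem_jacobson_bot]
    intro y
    obtain ⟨s, rfl⟩ := Ideal.Quotient.mk_surjective y
    rw [← map_mul, ← map_one (Ideal.Quotient.mk _), ← map_add]
    apply IsUnit.map
    have hg : algebraMap B' (Localization.AtPrime P) (f' i) ∈
        maximalIdeal (Localization.AtPrime P) :=
      (IsLocalization.AtPrime.to_map_mem_maximal_iff _ P _).mpr
        (hJP (Ideal.subset_span ⟨i, rfl⟩))
    by_contra hnu
    have h1 : algebraMap B' (Localization.AtPrime P) (f' i) * s + 1 ∈
        maximalIdeal (Localization.AtPrime P) := (mem_maximalIdeal _).mpr hnu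
    have h2 := Ideal.sub_mem _ h1 (Ideal.mul_mem_right s _ hg)
    rw [add_sub_cancel_left] at h2
    exact (Ideal.ne_top_iff_one _).mp (maximalIdeal.isMaximal _).ne_top h2
  have hreg := Groth.Agent.S5803.result _ r _ hjac step3
  have hcore := flat_quotient_of_isWeaklyRegular_fibre hS r
    (fun i => algebraMap B' (Localization.AtPrime P) (f' i)) hreg
  have hspan : (Ideal.span (Set.range f')).map (algebraMap B' (Localization.AtPrime P)) =
      Ideal.span (Set.range fun i => algebraMap B' (Localization.AtPrime P) (f' i)) := by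
    rw [Ideal.map_span, ← Set.range_comp]; rfl
  rw [hspan]
  exact Module.Flat.trans A' (Localization.AtPrime p) _

/-- **Lifting flatness of a quotient by a quasi-regular sequence along a locally nilpotent
thickening of the base.** -/
theorem S9270_main (hI : ∀ x ∈ I, IsNilpotent x)
    (hq : CAlgX.IsQuasiRegular
      (fun i => Ideal.Quotient.mk (Ideal.map (algebraMap A' B') I) (f' i)))
    (hflat : Module.Flat (A' ⧸ I) ((B' ⧸ Ideal.map (algebraMap A' B') I) ⧸
        Ideal.span (Set.range
          (fun i => Ideal.Quotient.mk (Ideal.map (algebraMap A' B') I) (f' i))))) :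
    Module.Flat A' (B' ⧸ Ideal.span (Set.range f')) := by
  refine Module.flat_of_isLocalized_maximal (R := A') B' (B' ⧸ Ideal.span (Set.range f'))
    (fun P _ => Localization.AtPrime P ⧸
      (Ideal.span (Set.range f')).map (algebraMap B' (Localization.AtPrime P)))
    (fun P _ => (IsScalarTower.toAlgHom B' (B' ⧸ Ideal.span (Set.range f'))
      (Localization.AtPrime P ⧸
        (Ideal.span (Set.range f')).map (algebraMap B' (Localization.AtPrime P)))).toLinearMap)
    (fun P hP => ?_)
  by_cases hJP : Ideal.span (Set.range f') ≤ P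
  · exact flat_localization_quotient A' B' I r f' hI hq hflat P hJP
  · obtain ⟨t, ht, htP⟩ := Set.not_subset.mp hJP
    have htop : (Ideal.span (Set.range f')).map (algebraMap B' (Localization.AtPrime P)) = ⊤ :=
      Ideal.eq_top_of_isUnit_mem _ (Ideal.mem_map_of_mem _ ht)
        (IsLocalization.map_units (Localization.AtPrime P) (⟨t, htP⟩ : P.primeCompl))
    haveI : Subsingleton (Localization.AtPrime P ⧸
        (Ideal.span (Set.range f')).map (algebraMap B' (Localization.AtPrime P))) :=
      Ideal.Quotient.subsingleton_iff.mpr htop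
    infer_instance

end perPrime

end Groth.Agent.Helper7.QRNil
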