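import Mathlib
import Groth.Prelude.Def_CAlgX
import Groth.Agent.Lib.Helper7.QRNil.Main

set_option linter.style.haveILetI false
set_option linter.unusedVariables false
set_option linter.unusedSectionVars false
set_option autoImplicit false
set_option backward.isDefEq.respectTransparency.types false
set_option synthInstance.maxHeartbeats 400000
set_option maxHeartbeats 800000

universe u

/-! helper7: helper7: smoothness of a quotient by a lift of a quasi-regular sequence along a locally nilpotent thickening -/

open IsLocalRing TensorProduct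

namespace Groth.Agent.Helper7.QRNil

/-- formal smoothness of the fibres from formal smoothness modulo an ideal killed in the field -/
theorem formallySmooth_tensor_of_quotient (A' C' : Type u) [CommRing A'] [CommRing C']
    [Algebra A' C'] (I : Ideal A') (κ : Type u) [Field κ] [Algebra A' κ]
    (hκ : ∀ x ∈ I, algebraMap A' κ x = 0)
    [Algebra.FormallySmooth (A' ⧸ I) (C' ⧸ I.map (algebraMap A' C'))] :
    Algebra.FormallySmooth κ (κ ⊗[A'] C') := by
  letI : Algebra (A' ⧸ I) κ := (Ideal.Quotient.lift I (algebraMap A' κ) hκ).toAlgebra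
  haveI : IsScalarTower A' (A' ⧸ I) κ := IsScalarTower.of_algebraMap_eq fun x => rfl
  let e1 : κ ⊗[A' ⧸ I] (C' ⧸ I.map (algebraMap A' C')) ≃ₐ[κ]
      κ ⊗[A' ⧸ I] ((A' ⧸ I) ⊗[A'] C') :=
    Algebra.TensorProduct.congr AlgEquiv.refl
      (Algebra.TensorProduct.quotIdealMapEquivQuotTensor C' I)
  let e2 : κ ⊗[A' ⧸ I] ((A' ⧸ I) ⊗[A'] C') ≃ₐ[κ] κ ⊗[A'] C' :=
    Algebra.TensorProduct.cancelBaseChange A' (A' ⧸ I) κ κ C'
  exact Algebra.FormallySmooth.of_equiv (e1.trans e2)

section main

variable (A' B' : Type u) [CommRing A'] [CommRing B'] [Algebra A' B'] (I : Ideal A') (r : ℕ)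
  (f' : Fin r → B')

/-- the double quotient identification, linear over `A' ⧸ I` -/
noncomputable def doubleQuotEquiv :
    ((B' ⧸ Ideal.map (algebraMap A' B') I) ⧸
        Ideal.span (Set.range
          (fun i => Ideal.Quotient.mk (Ideal.map (algebraMap A' B') I) (f' i)))) ≃ₐ[A' ⧸ I]
      ((B' ⧸ Ideal.span (Set.range f')) ⧸
        I.map (algebraMap A' (B' ⧸ Ideal.span (Set.range f')))) := by
  have h₁ : Ideal.span (Set.range
      (fun i => Ideal.Quotient.mk (Ideal.map (algebraMap A' B') I) (f' i))) =
      (Ideal.span (Set.range f')).map (Ideal.Quotient.mkₐ A' (Ideal.map (algebraMap A' B') I)) := by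
    rw [Ideal.map_span, ← Set.range_comp]; rfl
  have h₂ : (Ideal.map (algebraMap A' B') I).map
      (Ideal.Quotient.mkₐ A' (Ideal.span (Set.range f'))) =
      I.map (algebraMap A' (B' ⧸ Ideal.span (Set.range f'))) := by
    show Ideal.map (Ideal.Quotient.mk _) (Ideal.map (algebraMap A' B') I) = _
    rw [Ideal.map_map]; rfl
  exact (((Ideal.quotientEquivAlgOfEq A' h₁).trans
    (DoubleQuot.quotQuotEquivCommₐ A' (Ideal.map (algebraMap A' B') I)
      (Ideal.span (Set.range f')))).trans
    (Ideal.quotientEquivAlgOfEq A' h₂)).extendScalarsOfSurjective Ideal.Quotient.mk_surjective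

variable [Module.Flat A' B'] [Algebra.FinitePresentation A' B']

/-- **Lifting smoothness of a quotient by a quasi-regular sequence along a locally nilpotent
thickening of the base.** -/
theorem S9271_main (hI : ∀ x ∈ I, IsNilpotent x)
    (hq : CAlgX.IsQuasiRegular
      (fun i => Ideal.Quotient.mk (Ideal.map (algebraMap A' B') I) (f' i)))
    (hsm : Algebra.Smooth (A' ⧸ I) ((B' ⧸ Ideal.map (algebraMap A' B') I) ⧸
        Ideal.span (Set.range
          (fun i => Ideal.Quotient.mk (Ideal.map (algebraMap A' B') I) (f' i))))) :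
    Algebra.Smooth A' (B' ⧸ Ideal.span (Set.range f')) := by
  haveI := hsm
  haveI hfs : Algebra.FormallySmooth (A' ⧸ I) ((B' ⧸ Ideal.map (algebraMap A' B') I) ⧸
        Ideal.span (Set.range
          (fun i => Ideal.Quotient.mk (Ideal.map (algebraMap A' B') I) (f' i)))) :=
    hsm.formallySmooth
  have hflat : Module.Flat (A' ⧸ I) ((B' ⧸ Ideal.map (algebraMap A' B') I) ⧸
        Ideal.span (Set.range
          (fun i => Ideal.Quotient.mk (Ideal.map (algebraMap A' B') I) (f' i)))) :=
    inferInstance
  haveI : Module.Flat A' (B' ⧸ Ideal.span (Set.range f')) :=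
    S9270_main A' B' I r f' hI hq hflat
  haveI : Algebra.FinitePresentation A' (B' ⧸ Ideal.span (Set.range f')) :=
    Algebra.FinitePresentation.quotient (Submodule.fg_span (Set.finite_range f'))
  haveI : Algebra.FormallySmooth (A' ⧸ I) ((B' ⧸ Ideal.span (Set.range f')) ⧸
        I.map (algebraMap A' (B' ⧸ Ideal.span (Set.range f')))) :=
    Algebra.FormallySmooth.of_equiv (doubleQuotEquiv A' B' I r f')
  refine Algebra.Smooth.of_formallySmooth_fiber fun p' _ => ?_
  refine formallySmooth_tensor_of_quotient A' (B' ⧸ Ideal.span (Set.range f')) I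
    p'.ResidueField fun x hx => ?_
  obtain ⟨n, hn⟩ := hI x hx
  exact Ideal.algebraMap_residueField_eq_zero.mpr
    (Ideal.IsPrime.mem_of_pow_mem inferInstance n (hn ▸ p'.zero_mem))

end main

end Groth.Agent.Helper7.QRNil
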